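import Mathlib
import Cfsg.Agent.Lib.Helper28.CoverL
import Cfsg.Agent.Lib.Helper28.G23Mult.Words

/-!
# Word data for the cover presentation used for the Schur multiplier of `Ω₇(3)` (helper28)

Letters: `2 * i` is the generator `i`, `2 * i + 1` its inverse.  Generators `u, v, t, s`:
`u, v, t` satisfy the relators `G23Mult.Words.relL0` of the presentation of `G₂(3)`, `s` is an
involution commuting with `u` and `v`, with eleven further relators.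
`facsL0`: for each generator `x` a list of relators or inverses of relators whose product has the
exponent sums of `x⁻¹`.  `gU, gV, gT, gS`: the generators as words in the eight negated
reflections `O7.A 0, …, O7.A 7` of `Ω₇(3)`; `rootW k`: the `k`-th negated reflection as a word in
the letters of `u, v, t, s`.
-/

set_option autoImplicit false
set_option maxRecDepth 1000000

namespace Cfsg.Agent.Lib.Helper28.O73Mult.Words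

open Cfsg.Agent.Lib.Helper28.CovL

/-- the relators involving `s` -/
def relS : List (List ℕ) :=
  [[6, 6],
    [6, 0, 6, 0],
    [6, 2, 6, 3],
    [6, 4, 3, 3, 3, 3, 4, 0, 2, 4, 2, 0, 3, 4, 6, 3, 0],
    [6, 4, 3, 4, 0, 6, 4, 2, 4, 6, 4, 3, 4, 6, 0, 4, 2, 4],
    [6, 4, 0, 3, 0, 4, 0, 2, 0, 4, 6, 4, 0, 3, 0, 4, 0, 2, 0, 4],
    [6, 4, 0, 3, 4, 0, 4, 2, 0, 4, 6, 4, 0, 3, 0, 4, 0, 2, 0, 4],
    [6, 4, 0, 2, 4, 0, 2, 2, 2, 4, 0, 3, 4, 6, 3, 3, 0, 2, 0, 3],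
    [6, 4, 2, 2, 2, 0, 2, 4, 2, 2, 2, 0, 2, 4, 6, 2, 2, 2, 0, 2],
    [6, 4, 3, 3, 4, 0, 3, 0, 3, 3, 0, 4, 3, 4, 6, 3, 0, 2, 2, 0, 3],
    [6, 4, 2, 4, 0, 2, 2, 0, 2, 0, 4, 2, 2, 4, 6, 2, 0, 3, 3, 0, 2],
    [6, 4, 0, 3, 3, 3, 3, 0, 6, 2, 4, 6, 4, 6, 3, 0, 3, 3, 3, 3, 0, 4],
    [6, 4, 0, 3, 3, 0, 2, 4, 2, 2, 4, 6, 0, 2, 0, 3, 0, 2, 0, 3, 3, 0, 2],
    [6, 4, 2, 4, 3, 4, 6, 4, 3, 0, 4, 6, 3, 3, 3, 3, 4, 0, 2, 2, 4, 3, 4]]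

/-- the relators of level 0 -/
def relL0 : List (List ℕ) := Cfsg.Agent.Lib.Helper28.G23Mult.Words.relL0 ++ relS

/-- the factorisation of `s` -/
def facS : List (List ℕ) :=
  [[0, 0],
    [0, 0],
    [0, 0],
    [0, 0],
    [0, 0],
    [0, 0],
    [0, 0],
    [0, 0],
    [0, 0],
    [0, 0],
    [0, 0],
    [0, 0],
    [0, 0],
    [1, 3, 1, 3, 3, 1, 3, 1, 3, 3, 1, 3, 1, 2, 2, 2, 2, 2, 2],
    [1, 3, 1, 3, 3, 1, 3, 1, 3, 3, 1, 3, 1, 2, 2, 2, 2, 2, 2],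
    [1, 3, 1, 3, 3, 1, 3, 1, 3, 3, 1, 3, 1, 2, 2, 2, 2, 2, 2],
    [1, 3, 1, 3, 3, 1, 3, 1, 3, 3, 1, 3, 1, 2, 2, 2, 2, 2, 2],
    [4, 4],
    [4, 4],
    [4, 4],
    [4, 4],
    [6, 6],
    [5, 2, 5, 3, 3, 1, 5, 2, 2, 2, 2, 7, 5, 1, 2, 5, 7, 5, 2, 5, 3, 5, 7]]

/-- the factorisations of level 0 -/
def facsL0 : List (List (List ℕ)) :=
  Cfsg.Agent.Lib.Helper28.G23Mult.Words.facsL0 ++ [facS]

/-- the subgroup words of level 0: the generators `u`, `v`, `t` -/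
def subs0 : List (List ℕ) := [[0], [2], [4]]

/-- `u` as a word in the negated reflections -/
def gU : List ℕ := [7, 5, 2, 3, 1, 2, 5]

/-- a first generator `v₀` of `U₃(3)` as a word in the negated reflections -/
def oV : List ℕ := [7, 1, 2, 3, 4, 3, 2, 5, 6]

/-- the inverse of `v₀` -/
def oVi : List ℕ := [6, 5, 2, 3, 4, 3, 2, 1, 7]

/-- a first generator `t₀` as a word in the negated reflections -/
def oT : List ℕ := [0, 1, 2, 3, 4, 7, 5, 4, 1, 2, 3, 0, 1, 2, 5, 6, 1, 2, 5, 1, 2, 3, 4, 3, 2, 1, 0, 7, 5, 2, 3, 1, 2, 5, 0, 1, 2, 3, 4, 3, 2, 1, 5, 2, 1, 6, 5, 2, 1, 0, 3, 2, 1, 4, 5, 7, 4, 3, 2, 1, 0]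

/-- `v` as a word in the negated reflections -/
def gV : List ℕ :=
  oV ++ gU ++ oT ++ oV ++ oV ++ oT ++ oVi ++ oVi ++ oT

/-- `t` as a word in the negated reflections -/
def gT : List ℕ :=
  oT ++ oV ++ oT ++ oVi ++ oT ++ oVi ++ oT ++ gU ++ oV ++ gU ++ oVi ++ gU ++ oT ++ oV ++ oT ++ oV ++ oT ++ oVi ++ oT

/-- `s` as a word in the negated reflections -/
def gS : List ℕ := [4, 3, 2, 1, 0, 7, 4, 3, 2, 1, 0, 1, 2, 3, 4, 7, 0, 1, 2, 3, 4]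

/-- the negated reflections as words in the letters of `u, v, t, s` -/
def rootW (k : ℕ) : List ℕ :=
  match k with
  | 0 => [6, 3, 3, 4, 0, 3, 4, 6, 4, 2, 0, 4, 3, 3, 3, 0, 2, 0, 3, 0, 3, 3, 3]
  | 1 => [2, 4, 6, 4, 6, 2, 4, 6, 3, 0, 2, 4, 3, 4, 3, 3, 0, 3, 0, 2, 0]
  | 2 => [4, 2, 0, 4, 6, 4, 0, 3, 4]
  | 3 => [6, 2, 4, 3, 4, 2, 0, 4, 6, 4, 0, 3, 4, 2, 4, 2, 0, 2, 0, 3, 0, 3, 3]
  | 4 => [2, 0, 4, 6, 4, 0, 3]
  | 5 => [4, 0, 3, 3, 3, 4, 6, 4, 2, 2, 2, 0, 4]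
  | 6 => [0, 4, 2, 0, 3, 0, 4, 6, 4, 0, 2, 0, 3, 4, 0]
  | _ => [6]

/-- a relator of the presentation whose value in the cover group has order 6 -/
def zRel : List ℕ := [6, 4, 3, 3, 4, 0, 3, 0, 3, 3, 0, 4, 3, 4, 6, 3, 0, 2, 2, 0, 3]

end Cfsg.Agent.Lib.Helper28.O73Mult.Words
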