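import Mathlib
import Cfsg.Agent.Lib.Helper28.O7Mat
import Cfsg.Agent.Lib.Helper28.O73Mult.Words
import Cfsg.Agent.Lib.Helper28.O73Mult.MatP0
import Cfsg.Agent.Lib.Helper28.O73Mult.MatP1
import Cfsg.Agent.Lib.Helper28.O73Mult.MatP2

/-!
# `Ω₇(3)`: four generators as coded `7 × 7` matrices over `ZMod 3` (helper28, generated)

The generators `u, v, t, s` are products of the eight negated reflections `O7.A k`; the relators
`relL0` hold for their matrices; each negated reflection is a word in `u, v, t, s`.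
-/

set_option autoImplicit false
set_option maxRecDepth 100000

namespace Cfsg.Agent.Lib.Helper28.O73Mult

open Cfsg.Agent.Lib.Helper56.TC (ew ew_nil ew_cons ew_append)
open Cfsg.Agent.Lib.Helper28.O7 (mN A A_0 A_1 A_2 A_3 A_4 A_5 A_6 A_7 mN_one)
open Cfsg.Agent.Lib.Helper28.O73Mult.Words

theorem ew_gU : ew A gU = mN 40102334152331589970832 := by
  simp only [ew, List.map_cons, List.map_nil, List.prod_cons, List.prod_nil, mul_one, gU, A_1, A_2, A_3, A_5, A_7]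
  rw [mm_0, mm_1, mm_2, mm_3, mm_4, mm_5]

theorem ew_oV : ew A oV = mN 10743938232255644859984 := by
  simp only [ew, List.map_cons, List.map_nil, List.prod_cons, List.prod_nil, mul_one, oV, A_1, A_2, A_3, A_4, A_5, A_6, A_7]
  rw [mm_6, mm_7, mm_8, mm_9, mm_10, mm_11, mm_12, mm_13]

theorem ew_oVi : ew A oVi = mN 53572881404866150892664 := by
  simp only [ew, List.map_cons, List.map_nil, List.prod_cons, List.prod_nil, mul_one, oVi, A_1, A_2, A_3, A_4, A_5, A_6, A_7]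
  rw [mm_14, mm_15, mm_16, mm_17, mm_18, mm_19, mm_20, mm_21]

theorem ew_oT : ew A oT = mN 38430393501634118278526 := by
  simp only [ew, List.map_cons, List.map_nil, List.prod_cons, List.prod_nil, mul_one, oT, A_0, A_1, A_2, A_3, A_4, A_5, A_6, A_7]
  rw [mm_22, mm_23, mm_24, mm_25, mm_26, mm_27, mm_28, mm_29, mm_30, mm_31, mm_32, mm_33]
  rw [mm_34, mm_35, mm_36, mm_37, mm_38, mm_39, mm_40, mm_41, mm_42, mm_43, mm_44, mm_45]
  rw [mm_46, mm_47, mm_48, mm_49, mm_50, mm_51, mm_52, mm_53, mm_54, mm_55, mm_56, mm_57]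
  rw [mm_58, mm_59, mm_60, mm_61, mm_62, mm_63, mm_64, mm_65, mm_66, mm_67, mm_68, mm_69]
  rw [mm_70, mm_71, mm_72, mm_73, mm_74, mm_75, mm_76, mm_77, mm_78, mm_79, mm_80, mm_81]

theorem ew_gS : ew A gS = mN 104081810592268556553602 := by
  simp only [ew, List.map_cons, List.map_nil, List.prod_cons, List.prod_nil, mul_one, gS, A_0, A_1, A_2, A_3, A_4, A_7]
  rw [mm_82, mm_83, mm_84, mm_85, mm_86, mm_87, mm_88, mm_89, mm_90, mm_91, mm_92, mm_93]
  rw [mm_94, mm_95, mm_96, mm_97, mm_98, mm_99, mm_100, mm_101]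

theorem ew_gV : ew A gV = mN 224116644295610172907790 := by
  simp only [gV, ew_append, ew_gU, ew_oV, ew_oVi, ew_oT]
  rw [mm_102, mm_103, mm_104, mm_105, mm_106, mm_107, mm_108, mm_109]

theorem ew_gT : ew A gT = mN 169422671920043261586295 := by
  simp only [gT, ew_append, ew_gU, ew_oV, ew_oVi, ew_oT]
  rw [mm_110, mm_111, mm_112, mm_113, mm_114, mm_115, mm_116, mm_117, mm_118, mm_119, mm_120, mm_121]
  rw [mm_122, mm_123, mm_124, mm_125, mm_126, mm_127]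

/-- codes of the generator letters: `u, u⁻¹, v, v⁻¹, t, t⁻¹, s, s⁻¹` -/
def cB (a : ℕ) : ℕ :=
  match a with
  | 0 => 40102334152331589970832
  | 1 => 40102334152331589970832
  | 2 => 224116644295610172907790
  | 3 => 99023328444871196970131
  | 4 => 169422671920043261586295
  | 5 => 169422671920043261586295
  | 6 => 104081810592268556553602
  | _ => 104081810592268556553602

/-- the matrices of the generator letters -/
def BL (a : ℕ) : Matrix (Fin 7) (Fin 7) (ZMod 3) := mN (cB a)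

theorem BL_0 : BL 0 = mN 40102334152331589970832 := rfl
theorem BL_1 : BL 1 = mN 40102334152331589970832 := rfl
theorem BL_2 : BL 2 = mN 224116644295610172907790 := rfl
theorem BL_3 : BL 3 = mN 99023328444871196970131 := rfl
theorem BL_4 : BL 4 = mN 169422671920043261586295 := rfl
theorem BL_5 : BL 5 = mN 169422671920043261586295 := rfl
theorem BL_6 : BL 6 = mN 104081810592268556553602 := rfl
theorem BL_7 : BL 7 = mN 104081810592268556553602 := rfl

theorem BL_inv_0 : mN 40102334152331589970832 * mN 40102334152331589970832 = 1 := by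
  rw [mm_128, mN_one]

theorem BL_inv_1 : mN 224116644295610172907790 * mN 99023328444871196970131 = 1 := by
  rw [mm_129, mN_one]

theorem BL_inv_2 : mN 169422671920043261586295 * mN 169422671920043261586295 = 1 := by
  rw [mm_130, mN_one]

theorem BL_inv_3 : mN 104081810592268556553602 * mN 104081810592268556553602 = 1 := by
  rw [mm_131, mN_one]

theorem relB_0 : ew BL [0, 0] = 1 := by
  simp only [ew, List.map_cons, List.map_nil, List.prod_cons, List.prod_nil, mul_one, BL_0]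
  rw [mm_128, mN_one]

theorem relB_1 : ew BL [2, 2, 2, 2, 2, 2, 2, 2] = 1 := by
  simp only [ew, List.map_cons, List.map_nil, List.prod_cons, List.prod_nil, mul_one, BL_2]
  rw [mm_132, mm_133, mm_134, mm_135, mm_136, mm_137, mm_129, mN_one]

theorem relB_2 : ew BL [3, 3, 3, 3, 3, 3, 3, 3] = 1 := by
  simp only [ew, List.map_cons, List.map_nil, List.prod_cons, List.prod_nil, mul_one, BL_3]
  rw [mm_138, mm_139, mm_140, mm_141, mm_142, mm_143, mm_144, mN_one]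

theorem relB_3 : ew BL [3, 0, 3, 0, 3, 0, 3, 0, 3, 0, 3, 0] = 1 := by
  simp only [ew, List.map_cons, List.map_nil, List.prod_cons, List.prod_nil, mul_one, BL_0, BL_3]
  rw [mm_145, mm_146, mm_147, mm_148, mm_149, mm_150, mm_151, mm_152, mm_153, mm_154, mm_144, mN_one]

theorem relB_4 : ew BL [3, 3, 3, 3, 0, 3, 3, 3, 3, 0, 3, 3, 3, 3, 0] = 1 := by
  simp only [ew, List.map_cons, List.map_nil, List.prod_cons, List.prod_nil, mul_one, BL_0, BL_3]
  rw [mm_145, mm_155, mm_156, mm_157, mm_158, mm_159, mm_160, mm_161, mm_162, mm_163, mm_141, mm_142]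
  rw [mm_143, mm_144, mN_one]

theorem relB_5 : ew BL [3, 3, 3, 3, 0, 3, 3, 3, 3, 0, 2, 2, 2, 2, 0] = 1 := by
  simp only [ew, List.map_cons, List.map_nil, List.prod_cons, List.prod_nil, mul_one, BL_0, BL_2, BL_3]
  rw [mm_164, mm_165, mm_166, mm_167, mm_158, mm_159, mm_160, mm_161, mm_162, mm_163, mm_141, mm_142]
  rw [mm_143, mm_144, mN_one]

theorem relB_6 : ew BL [3, 3, 0, 3, 0, 3, 3, 0, 3, 0, 3, 3, 0, 3, 0] = 1 := by
  simp only [ew, List.map_cons, List.map_nil, List.prod_cons, List.prod_nil, mul_one, BL_0, BL_3]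
  rw [mm_145, mm_146, mm_147, mm_168, mm_169, mm_170, mm_171, mm_172, mm_173, mm_174, mm_175, mm_176]
  rw [mm_143, mm_144, mN_one]

theorem relB_7 : ew BL [3, 0, 2, 0, 3, 0, 2, 0, 3, 0, 2, 0, 3, 0, 2, 0] = 1 := by
  simp only [ew, List.map_cons, List.map_nil, List.prod_cons, List.prod_nil, mul_one, BL_0, BL_2, BL_3]
  rw [mm_164, mm_177, mm_178, mm_179, mm_180, mm_181, mm_182, mm_183, mm_184, mm_185, mm_186, mm_187]
  rw [mm_188, mm_154, mm_144, mN_one]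

theorem relB_8 : ew BL [3, 3, 0, 3, 0, 3, 0, 2, 0, 2, 0, 2, 0, 3, 0, 3, 0] = 1 := by
  simp only [ew, List.map_cons, List.map_nil, List.prod_cons, List.prod_nil, mul_one, BL_0, BL_2, BL_3]
  rw [mm_145, mm_146, mm_147, mm_148, mm_189, mm_190, mm_191, mm_192, mm_193, mm_194, mm_173, mm_174]
  rw [mm_175, mm_176, mm_143, mm_144, mN_one]

theorem relB_9 : ew BL [3, 3, 3, 3, 3, 3, 3, 0, 2, 0, 2, 0, 2, 0, 2, 0, 2, 0] = 1 := by
  simp only [ew, List.map_cons, List.map_nil, List.prod_cons, List.prod_nil, mul_one, BL_0, BL_2, BL_3]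
  rw [mm_164, mm_177, mm_195, mm_196, mm_197, mm_198, mm_199, mm_200, mm_201, mm_202, mm_138, mm_139]
  rw [mm_140, mm_141, mm_142, mm_143, mm_144, mN_one]

theorem relB_10 : ew BL [3, 3, 3, 3, 3, 3, 0, 2, 0, 2, 2, 0, 2, 0, 2, 2, 0, 2, 0] = 1 := by
  simp only [ew, List.map_cons, List.map_nil, List.prod_cons, List.prod_nil, mul_one, BL_0, BL_2, BL_3]
  rw [mm_164, mm_177, mm_195, mm_203, mm_204, mm_205, mm_206, mm_207, mm_208, mm_209, mm_210, mm_211]
  rw [mm_139, mm_140, mm_141, mm_142, mm_143, mm_144, mN_one]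

theorem relB_11 : ew BL [3, 3, 0, 3, 3, 0, 3, 0, 2, 0, 2, 2, 0, 2, 2, 0, 2, 0, 3, 0] = 1 := by
  simp only [ew, List.map_cons, List.map_nil, List.prod_cons, List.prod_nil, mul_one, BL_0, BL_2, BL_3]
  rw [mm_145, mm_146, mm_212, mm_213, mm_214, mm_215, mm_216, mm_217, mm_218, mm_219, mm_220, mm_221]
  rw [mm_222, mm_223, mm_224, mm_175, mm_176, mm_143, mm_144, mN_one]

theorem relB_12 : ew BL [3, 3, 3, 3, 3, 3, 0, 2, 0, 2, 0, 3, 0, 3, 0, 3, 0, 2, 0, 2, 0] = 1 := by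
  simp only [ew, List.map_cons, List.map_nil, List.prod_cons, List.prod_nil, mul_one, BL_0, BL_2, BL_3]
  rw [mm_164, mm_177, mm_195, mm_196, mm_225, mm_226, mm_227, mm_228, mm_229, mm_230, mm_208, mm_209]
  rw [mm_210, mm_211, mm_139, mm_140, mm_141, mm_142, mm_143, mm_144, mN_one]

theorem relB_13 : ew BL [3, 3, 3, 3, 0, 3, 3, 3, 0, 2, 0, 2, 0, 2, 0, 2, 0, 3, 3, 3, 0] = 1 := by
  simp only [ew, List.map_cons, List.map_nil, List.prod_cons, List.prod_nil, mul_one, BL_0, BL_2, BL_3]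
  rw [mm_145, mm_155, mm_156, mm_231, mm_232, mm_233, mm_234, mm_235, mm_236, mm_237, mm_238, mm_239]
  rw [mm_160, mm_161, mm_162, mm_163, mm_141, mm_142, mm_143, mm_144, mN_one]

theorem relB_14 : ew BL [4, 4] = 1 := by
  simp only [ew, List.map_cons, List.map_nil, List.prod_cons, List.prod_nil, mul_one, BL_4]
  rw [mm_130, mN_one]

theorem relB_15 : ew BL [0, 4, 0, 4, 0, 4] = 1 := by
  simp only [ew, List.map_cons, List.map_nil, List.prod_cons, List.prod_nil, mul_one, BL_0, BL_4]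
  rw [mm_240, mm_241, mm_242, mm_243, mm_128, mN_one]

theorem relB_16 : ew BL [4, 3, 0, 2, 2, 0, 2, 2, 0, 4, 3, 0, 2, 0, 3, 0, 3, 3, 3, 0, 2] = 1 := by
  simp only [ew, List.map_cons, List.map_nil, List.prod_cons, List.prod_nil, mul_one, BL_0, BL_2, BL_3, BL_4]
  rw [mm_244, mm_245, mm_246, mm_247, mm_248, mm_249, mm_250, mm_251, mm_252, mm_253, mm_254, mm_255]
  rw [mm_256, mm_257, mm_258, mm_259, mm_260, mm_261, mm_262, mm_130, mN_one]

theorem relB_17 : ew BL [6, 6] = 1 := by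
  simp only [ew, List.map_cons, List.map_nil, List.prod_cons, List.prod_nil, mul_one, BL_6]
  rw [mm_131, mN_one]

theorem relB_18 : ew BL [6, 0, 6, 0] = 1 := by
  simp only [ew, List.map_cons, List.map_nil, List.prod_cons, List.prod_nil, mul_one, BL_0, BL_6]
  rw [mm_263, mm_264, mm_131, mN_one]

theorem relB_19 : ew BL [6, 2, 6, 3] = 1 := by
  simp only [ew, List.map_cons, List.map_nil, List.prod_cons, List.prod_nil, mul_one, BL_2, BL_3, BL_6]
  rw [mm_265, mm_266, mm_131, mN_one]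

theorem relB_20 : ew BL [6, 4, 3, 3, 3, 3, 4, 0, 2, 4, 2, 0, 3, 4, 6, 3, 0] = 1 := by
  simp only [ew, List.map_cons, List.map_nil, List.prod_cons, List.prod_nil, mul_one, BL_0, BL_2, BL_3, BL_4, BL_6]
  rw [mm_145, mm_267, mm_268, mm_269, mm_270, mm_271, mm_272, mm_273, mm_274, mm_275, mm_276, mm_277]
  rw [mm_278, mm_279, mm_280, mm_131, mN_one]

theorem relB_21 : ew BL [6, 4, 3, 4, 0, 6, 4, 2, 4, 6, 4, 3, 4, 6, 0, 4, 2, 4] = 1 := by
  simp only [ew, List.map_cons, List.map_nil, List.prod_cons, List.prod_nil, mul_one, BL_0, BL_2, BL_3, BL_4, BL_6]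
  rw [mm_281, mm_282, mm_283, mm_284, mm_285, mm_286, mm_287, mm_288, mm_289, mm_290, mm_291, mm_292]
  rw [mm_293, mm_294, mm_279, mm_280, mm_131, mN_one]

theorem relB_22 : ew BL [6, 4, 0, 3, 0, 4, 0, 2, 0, 4, 6, 4, 0, 3, 0, 4, 0, 2, 0, 4] = 1 := by
  simp only [ew, List.map_cons, List.map_nil, List.prod_cons, List.prod_nil, mul_one, BL_0, BL_2, BL_3, BL_4, BL_6]
  rw [mm_240, mm_295, mm_296, mm_297, mm_298, mm_299, mm_300, mm_301, mm_302, mm_303, mm_304, mm_305]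
  rw [mm_306, mm_307, mm_308, mm_309, mm_310, mm_280, mm_131, mN_one]

theorem relB_23 : ew BL [6, 4, 0, 3, 4, 0, 4, 2, 0, 4, 6, 4, 0, 3, 0, 4, 0, 2, 0, 4] = 1 := by
  simp only [ew, List.map_cons, List.map_nil, List.prod_cons, List.prod_nil, mul_one, BL_0, BL_2, BL_3, BL_4, BL_6]
  rw [mm_240, mm_295, mm_296, mm_297, mm_298, mm_299, mm_300, mm_301, mm_302, mm_303, mm_304, mm_305]
  rw [mm_311, mm_312, mm_313, mm_309, mm_310, mm_280, mm_131, mN_one]

theorem relB_24 : ew BL [6, 4, 0, 2, 4, 0, 2, 2, 2, 4, 0, 3, 4, 6, 3, 3, 0, 2, 0, 3] = 1 := by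
  simp only [ew, List.map_cons, List.map_nil, List.prod_cons, List.prod_nil, mul_one, BL_0, BL_2, BL_3, BL_4, BL_6]
  rw [mm_314, mm_315, mm_316, mm_317, mm_318, mm_319, mm_320, mm_321, mm_322, mm_323, mm_324, mm_325]
  rw [mm_326, mm_327, mm_328, mm_329, mm_310, mm_280, mm_131, mN_one]

theorem relB_25 : ew BL [6, 4, 2, 2, 2, 0, 2, 4, 2, 2, 2, 0, 2, 4, 6, 2, 2, 2, 0, 2] = 1 := by
  simp only [ew, List.map_cons, List.map_nil, List.prod_cons, List.prod_nil, mul_one, BL_0, BL_2, BL_4, BL_6]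
  rw [mm_244, mm_330, mm_331, mm_332, mm_333, mm_334, mm_335, mm_336, mm_337, mm_338, mm_339, mm_340]
  rw [mm_341, mm_342, mm_343, mm_344, mm_345, mm_280, mm_131, mN_one]

theorem relB_26 : ew BL [6, 4, 3, 3, 4, 0, 3, 0, 3, 3, 0, 4, 3, 4, 6, 3, 0, 2, 2, 0, 3] = 1 := by
  simp only [ew, List.map_cons, List.map_nil, List.prod_cons, List.prod_nil, mul_one, BL_0, BL_2, BL_3, BL_4, BL_6]
  rw [mm_314, mm_315, mm_346, mm_347, mm_348, mm_349, mm_350, mm_351, mm_352, mm_353, mm_354, mm_355]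
  rw [mm_356, mm_357, mm_358, mm_359, mm_278, mm_279, mm_280, mm_131, mN_one]

theorem relB_27 : ew BL [6, 4, 2, 4, 0, 2, 2, 0, 2, 0, 4, 2, 2, 4, 6, 2, 0, 3, 3, 0, 2] = 1 := by
  simp only [ew, List.map_cons, List.map_nil, List.prod_cons, List.prod_nil, mul_one, BL_0, BL_2, BL_3, BL_4, BL_6]
  rw [mm_244, mm_245, mm_246, mm_360, mm_361, mm_362, mm_363, mm_364, mm_365, mm_366, mm_367, mm_368]
  rw [mm_369, mm_370, mm_371, mm_372, mm_373, mm_345, mm_280, mm_131, mN_one]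

theorem relB_28 : ew BL [6, 4, 0, 3, 3, 3, 3, 0, 6, 2, 4, 6, 4, 6, 3, 0, 3, 3, 3, 3, 0, 4] = 1 := by
  simp only [ew, List.map_cons, List.map_nil, List.prod_cons, List.prod_nil, mul_one, BL_0, BL_2, BL_3, BL_4, BL_6]
  rw [mm_240, mm_374, mm_375, mm_376, mm_377, mm_378, mm_379, mm_380, mm_381, mm_382, mm_383, mm_384]
  rw [mm_385, mm_386, mm_387, mm_388, mm_389, mm_309, mm_310, mm_280, mm_131, mN_one]

theorem relB_29 : ew BL [6, 4, 0, 3, 3, 0, 2, 4, 2, 2, 4, 6, 0, 2, 0, 3, 0, 2, 0, 3, 3, 0, 2] = 1 := by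
  simp only [ew, List.map_cons, List.map_nil, List.prod_cons, List.prod_nil, mul_one, BL_0, BL_2, BL_3, BL_4, BL_6]
  rw [mm_244, mm_245, mm_246, mm_360, mm_361, mm_390, mm_391, mm_392, mm_393, mm_394, mm_395, mm_396]
  rw [mm_397, mm_398, mm_399, mm_400, mm_401, mm_389, mm_309, mm_310, mm_280, mm_131, mN_one]

theorem relB_30 : ew BL [6, 4, 2, 4, 3, 4, 6, 4, 3, 0, 4, 6, 3, 3, 3, 3, 4, 0, 2, 2, 4, 3, 4] = 1 := by
  simp only [ew, List.map_cons, List.map_nil, List.prod_cons, List.prod_nil, mul_one, BL_0, BL_2, BL_3, BL_4, BL_6]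
  rw [mm_402, mm_403, mm_404, mm_405, mm_406, mm_407, mm_408, mm_409, mm_410, mm_411, mm_412, mm_413]
  rw [mm_414, mm_415, mm_416, mm_417, mm_418, mm_419, mm_373, mm_345, mm_280, mm_131, mN_one]

/-- the relators of level 0, written out -/
def relAll : List (List ℕ) :=
  [[0, 0],
   [2, 2, 2, 2, 2, 2, 2, 2],
   [3, 3, 3, 3, 3, 3, 3, 3],
   [3, 0, 3, 0, 3, 0, 3, 0, 3, 0, 3, 0],
   [3, 3, 3, 3, 0, 3, 3, 3, 3, 0, 3, 3, 3, 3, 0],
   [3, 3, 3, 3, 0, 3, 3, 3, 3, 0, 2, 2, 2, 2, 0],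
   [3, 3, 0, 3, 0, 3, 3, 0, 3, 0, 3, 3, 0, 3, 0],
   [3, 0, 2, 0, 3, 0, 2, 0, 3, 0, 2, 0, 3, 0, 2, 0],
   [3, 3, 0, 3, 0, 3, 0, 2, 0, 2, 0, 2, 0, 3, 0, 3, 0],
   [3, 3, 3, 3, 3, 3, 3, 0, 2, 0, 2, 0, 2, 0, 2, 0, 2, 0],
   [3, 3, 3, 3, 3, 3, 0, 2, 0, 2, 2, 0, 2, 0, 2, 2, 0, 2, 0],
   [3, 3, 0, 3, 3, 0, 3, 0, 2, 0, 2, 2, 0, 2, 2, 0, 2, 0, 3, 0],
   [3, 3, 3, 3, 3, 3, 0, 2, 0, 2, 0, 3, 0, 3, 0, 3, 0, 2, 0, 2, 0],
   [3, 3, 3, 3, 0, 3, 3, 3, 0, 2, 0, 2, 0, 2, 0, 2, 0, 3, 3, 3, 0],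
   [4, 4],
   [0, 4, 0, 4, 0, 4],
   [4, 3, 0, 2, 2, 0, 2, 2, 0, 4, 3, 0, 2, 0, 3, 0, 3, 3, 3, 0, 2],
   [6, 6],
   [6, 0, 6, 0],
   [6, 2, 6, 3],
   [6, 4, 3, 3, 3, 3, 4, 0, 2, 4, 2, 0, 3, 4, 6, 3, 0],
   [6, 4, 3, 4, 0, 6, 4, 2, 4, 6, 4, 3, 4, 6, 0, 4, 2, 4],
   [6, 4, 0, 3, 0, 4, 0, 2, 0, 4, 6, 4, 0, 3, 0, 4, 0, 2, 0, 4],
   [6, 4, 0, 3, 4, 0, 4, 2, 0, 4, 6, 4, 0, 3, 0, 4, 0, 2, 0, 4],
   [6, 4, 0, 2, 4, 0, 2, 2, 2, 4, 0, 3, 4, 6, 3, 3, 0, 2, 0, 3],
   [6, 4, 2, 2, 2, 0, 2, 4, 2, 2, 2, 0, 2, 4, 6, 2, 2, 2, 0, 2],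
   [6, 4, 3, 3, 4, 0, 3, 0, 3, 3, 0, 4, 3, 4, 6, 3, 0, 2, 2, 0, 3],
   [6, 4, 2, 4, 0, 2, 2, 0, 2, 0, 4, 2, 2, 4, 6, 2, 0, 3, 3, 0, 2],
   [6, 4, 0, 3, 3, 3, 3, 0, 6, 2, 4, 6, 4, 6, 3, 0, 3, 3, 3, 3, 0, 4],
   [6, 4, 0, 3, 3, 0, 2, 4, 2, 2, 4, 6, 0, 2, 0, 3, 0, 2, 0, 3, 3, 0, 2],
   [6, 4, 2, 4, 3, 4, 6, 4, 3, 0, 4, 6, 3, 3, 3, 3, 4, 0, 2, 2, 4, 3, 4]]

theorem relL0_eq : relL0 = relAll := by decide +kernel

theorem relB : ∀ l ∈ relL0, ew BL l = 1 := by
  intro l hl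
  rw [relL0_eq] at hl
  simp only [relAll, List.mem_cons, List.not_mem_nil, or_false] at hl
  rcases hl with rfl | rfl | rfl | rfl | rfl | rfl | rfl | rfl | rfl | rfl | rfl | rfl | rfl | rfl | rfl | rfl | rfl | rfl | rfl | rfl | rfl | rfl | rfl | rfl | rfl | rfl | rfl | rfl | rfl | rfl | rfl
  · exact relB_0
  · exact relB_1
  · exact relB_2
  · exact relB_3
  · exact relB_4
  · exact relB_5
  · exact relB_6
  · exact relB_7
  · exact relB_8
  · exact relB_9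
  · exact relB_10
  · exact relB_11
  · exact relB_12
  · exact relB_13
  · exact relB_14
  · exact relB_15
  · exact relB_16
  · exact relB_17
  · exact relB_18
  · exact relB_19
  · exact relB_20
  · exact relB_21
  · exact relB_22
  · exact relB_23
  · exact relB_24
  · exact relB_25
  · exact relB_26
  · exact relB_27
  · exact relB_28
  · exact relB_29
  · exact relB_30

theorem rootB_0 : ew BL (rootW 0) = mN 159533790428164363034150 := by
  simp only [ew, List.map_cons, List.map_nil, List.prod_cons, List.prod_nil, mul_one, rootW, BL_0, BL_2, BL_3, BL_4, BL_6]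
  rw [mm_138, mm_139, mm_420, mm_421, mm_422, mm_423, mm_424, mm_425, mm_426, mm_427, mm_428, mm_429]
  rw [mm_430, mm_431, mm_432, mm_433, mm_434, mm_435, mm_436, mm_437, mm_438, mm_439]

theorem rootB_1 : ew BL (rootW 1) = mN 6992912779967134185266 := by
  simp only [ew, List.map_cons, List.map_nil, List.prod_cons, List.prod_nil, mul_one, rootW, BL_0, BL_2, BL_3, BL_4, BL_6]
  rw [mm_164, mm_177, mm_178, mm_179, mm_440, mm_441, mm_442, mm_443, mm_444, mm_445, mm_446, mm_447]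
  rw [mm_448, mm_449, mm_450, mm_451, mm_452, mm_453, mm_454, mm_455]

theorem rootB_2 : ew BL (rootW 2) = mN 5932944465311440035110 := by
  simp only [ew, List.map_cons, List.map_nil, List.prod_cons, List.prod_nil, mul_one, rootW, BL_0, BL_2, BL_3, BL_4, BL_6]
  rw [mm_402, mm_456, mm_457, mm_458, mm_459, mm_460, mm_461, mm_462]

theorem rootB_3 : ew BL (rootW 3) = mN 211416107728005899264720 := by
  simp only [ew, List.map_cons, List.map_nil, List.prod_cons, List.prod_nil, mul_one, rootW, BL_0, BL_2, BL_3, BL_4, BL_6]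
  rw [mm_138, mm_463, mm_464, mm_465, mm_466, mm_467, mm_468, mm_469, mm_470, mm_471, mm_472, mm_473]
  rw [mm_474, mm_475, mm_476, mm_477, mm_478, mm_479, mm_480, mm_481, mm_482, mm_483]

theorem rootB_4 : ew BL (rootW 4) = mN 85808806531608352148874 := by
  simp only [ew, List.map_cons, List.map_nil, List.prod_cons, List.prod_nil, mul_one, rootW, BL_0, BL_2, BL_3, BL_4, BL_6]
  rw [mm_314, mm_484, mm_485, mm_486, mm_487, mm_488]

theorem rootB_5 : ew BL (rootW 5) = mN 70631863266644779784420 := by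
  simp only [ew, List.map_cons, List.map_nil, List.prod_cons, List.prod_nil, mul_one, rootW, BL_0, BL_2, BL_3, BL_4, BL_6]
  rw [mm_240, mm_295, mm_489, mm_490, mm_491, mm_492, mm_493, mm_494, mm_495, mm_496, mm_497, mm_498]

theorem rootB_6 : ew BL (rootW 6) = mN 159557201622488833834790 := by
  simp only [ew, List.map_cons, List.map_nil, List.prod_cons, List.prod_nil, mul_one, rootW, BL_0, BL_2, BL_3, BL_4, BL_6]
  rw [mm_499, mm_500, mm_501, mm_502, mm_503, mm_504, mm_505, mm_506, mm_507, mm_508, mm_509, mm_510]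
  rw [mm_511, mm_512]

theorem rootB_7 : ew BL (rootW 7) = mN 104081810592268556553602 := by
  simp only [ew, List.map_cons, List.map_nil, List.prod_cons, List.prod_nil, mul_one, rootW, BL_6]

end Cfsg.Agent.Lib.Helper28.O73Mult
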